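import Groth.Agent.Lib.TwConst.FiniteDescent
import Groth.Agent.Lib.LocNoeth.Scheme
import Groth.Agent.Lib.EtSite.FpqcDescent
import Groth.Agent.S19144
import Groth.Agent.Lib.Weight.Multiplicity
import Mathlib.AlgebraicGeometry.Morphisms.QuasiFinite
import Mathlib.AlgebraicGeometry.Noetherian

/-!
Clopen subschemes of quasi-isotrivial twisted constant schemes over a locally noetherian base.
-/

universe u

open CategoryTheory CategoryTheory.Limits AlgebraicGeometry

namespace GrothLib.TwConst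

/-- A finite disjoint sum of copies of an affine scheme is finite over it. -/
theorem isFinite_sigma_id (W : Scheme.{u}) [IsAffine W] (N : Type u) [Finite N] :
    IsFinite (Sigma.desc fun _ : N => 𝟙 W) := by
  have e : (Sigma.desc fun _ : N => 𝟙 W) = (Sigma.mapIso fun _ : N => W.isoSpec).hom ≫
      sigmaSpec (fun _ : N => Γ(W, ⊤)) ≫
        Spec.map (CommRingCat.ofHom (algebraMap Γ(W, ⊤) (N → Γ(W, ⊤)))) ≫ W.isoSpec.inv := by
    refine Sigma.hom_ext _ _ fun i => ?_
    simp only [Sigma.ι_desc, Sigma.ι_mapIso_hom_assoc, ι_sigmaSpec_assoc]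
    rw [← Spec.map_comp_assoc]
    have : CommRingCat.ofHom (algebraMap Γ(W, ⊤) (N → Γ(W, ⊤))) ≫
        CommRingCat.ofHom (Pi.evalRingHom (fun _ : N => Γ(W, ⊤)) i) = 𝟙 Γ(W, ⊤) := rfl
    rw [this]
    erw [Spec.map_id, Category.id_comp, Iso.hom_inv_id]
  have : IsFinite (Spec.map (CommRingCat.ofHom (algebraMap Γ(W, ⊤) (N → Γ(W, ⊤))))) :=
    (IsFinite.SpecMap_iff _).mpr (RingHom.finite_algebraMap.mpr inferInstance)
  rw [e]
  infer_instance

variable {S : Scheme.{u}} [IsLocallyNoetherian S] (P : Over S)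

/-- Connected affine etale charts of a quasi-isotrivial twisted constant scheme. -/
theorem exists_chart (hP : TwC.IsTwConst TwC.Topology.etale P) (s : S) :
    ∃ (W : Scheme.{u}) (_ : IsAffine W) (_ : ConnectedSpace W) (g : W ⟶ S) (_ : Etale g) (M : Type u)
      (σ : M → (W ⟶ pullback P.hom g)), s ∈ Set.range g ∧ (∀ m, IsOpenImmersion (σ m)) ∧
      (∀ m, σ m ≫ pullback.snd P.hom g = 𝟙 W) ∧ (∀ m n t t', σ m t = σ n t' → m = n) ∧
      ∀ z, ∃ m t, σ m t = z := by
  obtain ⟨S', f, hf, ⟨s', rfl⟩, M, ⟨e⟩⟩ := hP s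
  obtain ⟨_, ⟨V₀, hV, rfl⟩, hsV, -⟩ :=
    S'.isBasis_affineOpens.exists_subset_of_mem_open (Set.mem_univ s') isOpen_univ
  let V : S'.Opens := V₀
  haveI : IsLocallyNoetherian (V : Scheme.{u}) := LocallyOfFiniteType.isLocallyNoetherian (V.ι ≫ f)
  haveI : LocallyConnectedSpace (V : Scheme.{u}) := (GrothLib.LocNoeth.isLocNoeth _).locallyConnectedSpace
  haveI : IsAffine (V : Scheme.{u}) := hV
  let W : (V : Scheme.{u}).Opens := ⟨connectedComponent ⟨s', hsV⟩, isOpen_connectedComponent⟩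
  haveI : IsClosedImmersion W.ι := IsClosedImmersion.of_isPreimmersion _ (by
    rw [Scheme.Opens.range_ι]; exact isClosed_connectedComponent)
  haveI : IsAffine (W : Scheme.{u}) := isAffine_of_isAffineHom W.ι
  haveI : ConnectedSpace (W : Scheme.{u}) := isConnected_iff_connectedSpace.mp isConnected_connectedComponent
  obtain ⟨e'⟩ := nonempty_iso_precomp P.hom f (W.ι ≫ V.ι) M e
  obtain ⟨σ, h1, h2, h3, h4⟩ := exists_sections _ M e'
  refine ⟨W, inferInstance, inferInstance, (W.ι ≫ V.ι) ≫ f, inferInstance, M, σ, ?_, h1, h2, h3, h4⟩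
  exact ⟨⟨⟨s', hsV⟩, mem_connectedComponent⟩, rfl⟩

variable {Z : Scheme.{u}} (z : Z ⟶ P.left) [IsOpenImmersion z] [IsClosedImmersion z]

/-- The dichotomy on a chart: the fibres over the image are all finite and `z ≫ P.hom` is finite over the chart,
or they are all infinite. -/
theorem chart_dichotomy {W : Scheme.{u}} [IsAffine W] [ConnectedSpace W] (g : W ⟶ S) [Etale g] {M : Type u}
    (σ : M → (W ⟶ pullback P.hom g)) (h1 : ∀ m, IsOpenImmersion (σ m))
    (h2 : ∀ m, σ m ≫ pullback.snd P.hom g = 𝟙 W) (h3 : ∀ m n t t', σ m t = σ n t' → m = n)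
    (h4 : ∀ x, ∃ m t, σ m t = x) :
    ((∀ w, ((z ≫ P.hom) ⁻¹' {g w}).Finite) ∧ IsFinite (pullback.snd (z ≫ P.hom) g)) ∨
      ∀ w, ¬ ((z ≫ P.hom) ⁻¹' {g w}).Finite := by
  let j : pullback (z ≫ P.hom) g ⟶ pullback P.hom g := pullback.map _ _ _ _ z (𝟙 W) (𝟙 S) (by simp) (by simp)
  have hjsq : IsPullback (pullback.fst (z ≫ P.hom) g) j z (pullback.fst P.hom g) := by
    refine IsPullback.of_bot ?_ (pullback.lift_fst _ _ _).symm (IsPullback.of_hasPullback P.hom g)
    have : j ≫ pullback.snd P.hom g = pullback.snd (z ≫ P.hom) g := (pullback.lift_snd _ _ _).trans (Category.comp_id _)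
    rw [this]
    exact IsPullback.of_hasPullback _ _
  haveI : IsOpenImmersion j := MorphismProperty.of_isPullback (P := @IsOpenImmersion) hjsq ‹_›
  haveI : IsClosedImmersion j := MorphismProperty.of_isPullback (P := @IsClosedImmersion) hjsq ‹_›
  have hclopen : IsClopen (Set.range j) := ⟨j.isClosedEmbedding.isClosed_range, j.isOpenEmbedding.isOpen_range⟩
  let N := {m : M // ∃ w, σ m w ∈ Set.range j}
  have hN : ∀ (n : N) w, σ n.1 w ∈ Set.range j := fun n w =>
    Set.ext_iff.mp ((hclopen.preimage (σ n.1).continuous).eq_univ n.2) w |>.mpr trivial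
  have hs : ∀ m w, pullback.snd P.hom g (σ m w) = w := fun m w => congrArg (fun k : W ⟶ W => k w) (h2 m)
  have hjs : ∀ y, pullback.snd P.hom g (j y) = pullback.snd (z ≫ P.hom) g y := fun y =>
    congrArg (fun k : pullback (z ≫ P.hom) g ⟶ W => k y) ((pullback.lift_snd _ _ _).trans (Category.comp_id _))
  have hcond : ∀ y, (z ≫ P.hom) (pullback.fst (z ≫ P.hom) g y) = g (pullback.snd (z ≫ P.hom) g y) := fun y =>
    congrArg (fun k : pullback (z ≫ P.hom) g ⟶ S => k y) pullback.condition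
  by_cases hfin : Finite N
  · refine Or.inl ⟨fun w => ?_, ?_⟩
    · choose lift hlift using fun n : N => hN n w
      refine (Set.finite_range fun n => pullback.fst (z ≫ P.hom) g (lift n)).subset fun x hx => ?_
      obtain ⟨y, hy, hy'⟩ := Scheme.Pullback.exists_preimage_pullback (f := z ≫ P.hom) (g := g) x w hx
      obtain ⟨m, t, ht⟩ := h4 (j y)
      have htw : t = w := by rw [← hs m t, ht, hjs, hy']
      subst htw
      let n : N := ⟨m, ⟨t, ⟨y, ht.symm⟩⟩⟩
      have hn : lift n = y := j.isOpenEmbedding.injective ((hlift n).trans ht)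
      exact ⟨n, (congrArg (pullback.fst (z ≫ P.hom) g) hn).trans hy⟩
    · let σ' : N → (W ⟶ pullback (z ≫ P.hom) g) := fun n =>
        IsOpenImmersion.lift j (σ n.1) (by rintro _ ⟨w, rfl⟩; exact hN n w)
      have hσ' : ∀ n, σ' n ≫ j = σ n.1 := fun n => IsOpenImmersion.lift_fac _ _ _
      haveI : ∀ n, IsOpenImmersion (σ' n) := fun n => by
        haveI := h1 n.1
        haveI : IsOpenImmersion (σ' n ≫ j) := by rw [hσ']; infer_instance
        exact IsOpenImmersion.of_comp (σ' n) j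
      have hj2 : j ≫ pullback.snd P.hom g = pullback.snd (z ≫ P.hom) g := (pullback.lift_snd _ _ _).trans (Category.comp_id _)
      have hev : ∀ n w, j (σ' n w) = σ n.1 w := fun n w => congrArg (fun k : W ⟶ pullback P.hom g => k w) (hσ' n)
      obtain ⟨e⟩ := nonempty_iso_of_sections (pullback.snd (z ≫ P.hom) g) N σ'
        (fun n => by rw [← hj2, ← Category.assoc, hσ', h2])
        (fun n n' t t' h => Subtype.ext (h3 _ _ t t' (by rw [← hev, ← hev, h])))
        (fun y => by
          obtain ⟨m, t, ht⟩ := h4 (j y)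
          refine ⟨⟨m, t, y, ht.symm⟩, t, j.isOpenEmbedding.injective ?_⟩
          rw [hev]; exact ht)
      have hw : ((Over.forget W).mapIso e).hom ≫ (TwC.const W N).hom = pullback.snd (z ≫ P.hom) g := Over.w e.hom
      rw [← hw]
      exact MorphismProperty.comp_mem @IsFinite _ _ inferInstance (isFinite_sigma_id W N)
  · refine Or.inr fun w h => hfin ?_
    haveI : QuasiCompact g := quasiCompact_of_compactSpace g
    haveI : LocallyQuasiFinite g := GrothLib.Weight.locallyQuasiFinite_of_formallyUnramified g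
    have hfib : (pullback.fst (z ≫ P.hom) g ⁻¹' ((z ≫ P.hom) ⁻¹' {g w})).Finite :=
      (pullback.fst (z ≫ P.hom) g).finite_preimage h
    choose lift hlift using fun n : N => hN n w
    have hinj : Function.Injective lift := fun n n' e =>
      Subtype.ext (h3 _ _ w w (by rw [← hlift, ← hlift, e]))
    have hsub : Set.range lift ⊆ pullback.fst (z ≫ P.hom) g ⁻¹' ((z ≫ P.hom) ⁻¹' {g w}) := by
      rintro _ ⟨n, rfl⟩
      change (z ≫ P.hom) (pullback.fst (z ≫ P.hom) g (lift n)) = g w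
      rw [hcond, ← hjs, hlift, hs]
    exact Set.finite_univ_iff.mp (Set.Finite.of_finite_image (by rw [Set.image_univ]; exact hfib.subset hsub) hinj.injOn)

/-- The points over which a clopen subscheme has finite fibres form a clopen set. -/
theorem isClopen_finite_fibre (hP : TwC.IsTwConst TwC.Topology.etale P) :
    IsClopen {s : S | ((z ≫ P.hom) ⁻¹' {s}).Finite} := by
  refine ⟨isOpen_compl_iff.mp (isOpen_iff_forall_mem_open.mpr fun s hs => ?_), isOpen_iff_forall_mem_open.mpr fun s hs => ?_⟩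
  all_goals
    obtain ⟨W, _, _, g, _, M, σ, ⟨w, rfl⟩, h1, h2, h3, h4⟩ := exists_chart P hP s
    refine ⟨Set.range g, ?_, g.isOpenMap.isOpen_range, ⟨w, rfl⟩⟩
    rintro _ ⟨v, rfl⟩
  · exact (chart_dichotomy P z g σ h1 h2 h3 h4).elim (fun h => absurd (h.1 w) hs) (fun h => h v)
  · exact (chart_dichotomy P z g σ h1 h2 h3 h4).elim (fun h => h.1 v) (fun h => absurd hs (h w))

/-- A clopen subscheme with finite fibres is finite. -/
theorem isFinite_of_finite_fibres (hP : TwC.IsTwConst TwC.Topology.etale P)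
    (h : ∀ s : S, ((z ≫ P.hom) ⁻¹' {s}).Finite) : IsFinite (z ≫ P.hom) := by
  choose W hW hWc g hg M σ hs h1 h2 h3 h4 using exists_chart P hP
  refine (IsZariskiLocalAtTarget.iff_of_iSup_eq_top (P := @IsFinite) (fun s => (⟨Set.range (g s), (g s).isOpenMap.isOpen_range⟩ : S.Opens))
    (top_le_iff.mp fun s _ => TopologicalSpace.Opens.mem_iSup.mpr ⟨s, hs s⟩)).mpr fun s => ?_
  set V : S.Opens := ⟨Set.range (g s), (g s).isOpenMap.isOpen_range⟩
  haveI := hW s
  haveI := hWc s
  let g' : W s ⟶ (V : Scheme.{u}) := IsOpenImmersion.lift V.ι (g s) (by rw [Scheme.Opens.range_ι]; exact subset_rfl)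
  have hg' : g' ≫ V.ι = g s := IsOpenImmersion.lift_fac _ _ _
  haveI : Surjective g' := ⟨fun v => by
    obtain ⟨x, hx⟩ := v.2
    exact ⟨x, V.ι.isOpenEmbedding.injective ((congrArg (fun k : W s ⟶ S => k x) hg').trans hx)⟩⟩
  haveI : Flat (g' ≫ V.ι) := by rw [hg']; infer_instance
  haveI : Flat g' := MorphismProperty.of_postcomp (W := @Flat) (W' := @IsOpenImmersion) g' V.ι inferInstance ‹_›
  haveI : IsLocallyNoetherian (V : Scheme.{u}) := LocallyOfFiniteType.isLocallyNoetherian V.ι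
  haveI : QuasiCompact g' := quasiCompact_of_compactSpace g'
  have hfin := ((chart_dichotomy P z (g s) (σ s) (h1 s) (h2 s) (h3 s) (h4 s)).resolve_right fun hh => by
    obtain ⟨w, -⟩ := hs s
    exact hh w (h _)).2
  have hsq : IsPullback (pullback.fst ((z ≫ P.hom) ∣_ V) g' ≫ ((z ≫ P.hom) ⁻¹ᵁ V).ι) (pullback.snd ((z ≫ P.hom) ∣_ V) g')
      (z ≫ P.hom) (g s) :=
    hg' ▸ (IsPullback.of_hasPullback ((z ≫ P.hom) ∣_ V) g').paste_horiz (isPullback_morphismRestrict (z ≫ P.hom) V).flip
  have : IsFinite (pullback.snd ((z ≫ P.hom) ∣_ V) g') := by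
    rw [← hsq.isoPullback_hom_snd]; infer_instance
  exact MorphismProperty.of_pullback_snd_of_descendsAlong (P := @IsFinite) (Q := GrothLib.EtSite.fpqcCov)
    ⟨⟨inferInstance, inferInstance⟩, inferInstance⟩ this

end GrothLib.TwConst
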