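import Groth.Prelude.Def_TwC
import Groth.Agent.Lib.LocNoeth.Space
import Mathlib.AlgebraicGeometry.Limits
import Mathlib.AlgebraicGeometry.PullbackCarrier
import Mathlib.AlgebraicGeometry.Morphisms.FlatDescent
import Mathlib.AlgebraicGeometry.Morphisms.UniversallyInjective
import Mathlib.AlgebraicGeometry.Morphisms.UniversallyOpen
import Mathlib.AlgebraicGeometry.Morphisms.Finite
import Mathlib.AlgebraicGeometry.Morphisms.Proper

/-!
A scheme over a connected base which becomes constant over a finite flat cover with a single radicial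
point over some point of the base is constant.
-/

universe u

open CategoryTheory CategoryTheory.Limits AlgebraicGeometry

namespace GrothLib.TwConst

variable {U T X : Scheme.{u}}

/-- Over a point with purely inseparable residue extension the projection is injective on fibres. -/
theorem eq_of_fst_eq (fX : X ⟶ U) (π : T ⟶ U) (v : T)
    (hpi : letI := (π.residueFieldMap v).hom.toAlgebra
      IsPurelyInseparable (U.residueField (π v)) (T.residueField v))
    (z z' : ↑(pullback fX π)) (h : pullback.fst fX π z = pullback.fst fX π z')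
    (hz : pullback.snd fX π z = v) (hz' : pullback.snd fX π z' = v) : z = z' := by
  haveI : UniversallyInjective (Spec.map (π.residueFieldMap v)) := by
    refine ((tfae_universallyInjective (f := Spec.map (π.residueFieldMap v))).out 0 1).mpr ?_
    intro K hK g₁ g₂ hg
    obtain ⟨ψ₁, rfl⟩ := Spec.map_surjective g₁
    obtain ⟨ψ₂, rfl⟩ := Spec.map_surjective g₂
    simp only [← Spec.map_comp] at hg
    have hcomp := congrArg CommRingCat.Hom.hom (Spec.map_injective hg)
    letI := (π.residueFieldMap v).hom.toAlgebra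
    haveI := hpi
    congr 1
    exact CommRingCat.hom_ext (IsPurelyInseparable.injective_comp_algebraMap
      (U.residueField (π v)) (T.residueField v) K hcomp)
  let a := T.fromSpecResidueField v ≫ π
  haveI : UniversallyInjective a := by
    change UniversallyInjective (T.fromSpecResidueField v ≫ π)
    rw [← π.SpecMap_residueFieldMap_fromSpecResidueField v]
    exact MorphismProperty.comp_mem @UniversallyInjective _ _ inferInstance inferInstance
  let m : pullback fX a ⟶ pullback fX π :=
    pullback.map fX a fX π (𝟙 X) (T.fromSpecResidueField v) (𝟙 U) (by simp) (by simp [a])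
  have hm : ∀ y, pullback.snd fX π y = v → y ∈ Set.range m := fun y hy => by
    rw [Scheme.Pullback.range_map]
    exact ⟨⟨_, rfl⟩, by
      simp only [Set.mem_preimage, Scheme.range_fromSpecResidueField, Set.mem_singleton_iff]
      exact hy⟩
  obtain ⟨w, rfl⟩ := hm z hz
  obtain ⟨w', rfl⟩ := hm z' hz'
  haveI : UniversallyInjective (pullback.fst fX a) :=
    MorphismProperty.pullback_fst (P := @UniversallyInjective) fX a inferInstance
  refine congrArg m ((pullback.fst fX a).injective ?_)
  have e : m ≫ pullback.fst fX π = pullback.fst fX a := (pullback.lift_fst _ _ _).trans (Category.comp_id _)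
  rw [← e, Scheme.Hom.comp_apply, Scheme.Hom.comp_apply]
  exact h

/-- Descent of constancy along a finite flat cover with a unique radicial point over `u`. -/
theorem nonempty_iso_const (fX : X ⟶ U) (π : T ⟶ U) [IsFinite π] [Flat π] [LocallyOfFinitePresentation π]
    [ConnectedSpace U] (v : T) (hv : ∀ t, π t = π v → t = v)
    (hpi : letI := (π.residueFieldMap v).hom.toAlgebra
      IsPurelyInseparable (U.residueField (π v)) (T.residueField v))
    (M : Type u) (e : Over.mk (pullback.snd fX π) ≅ TwC.const T M) :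
    Nonempty (Over.mk fX ≅ TwC.const U M) := by
  classical
  have himg : ∀ W : Set T, IsClopen W → W.Nonempty → v ∈ W := fun W hW hne => by
    have h : IsClopen (π '' W) := ⟨π.isClosedMap _ hW.1, π.isOpenMap _ hW.2⟩
    obtain ⟨t, ht, e⟩ : π v ∈ π '' W := by rw [h.eq_univ (hne.image _)]; trivial
    exact hv t e ▸ ht
  haveI : Surjective π := ⟨fun x => by
    have h : IsClopen (Set.range π) := ⟨π.isClosedMap.isClosed_range, π.isOpenMap.isOpen_range⟩
    exact Set.ext_iff.mp (h.eq_univ ⟨_, v, rfl⟩) x |>.mpr trivial⟩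
  let e' : pullback fX π ≅ (TwC.const T M).left := (Over.forget T).mapIso e
  let σ : M → (T ⟶ pullback fX π) := fun m => Sigma.ι (fun _ : M => T) m ≫ e'.inv
  have hσ : ∀ m, σ m ≫ pullback.snd fX π = 𝟙 T := fun m => by
    have : e'.inv ≫ pullback.snd fX π = Sigma.desc fun _ : M => 𝟙 T := Over.w e.inv
    simp only [σ, Category.assoc, this]
    exact Sigma.ι_desc _ _
  have hcov : ∀ z, ∃ m t, σ m t = z := fun z => by
    obtain ⟨⟨m, t⟩, ht⟩ := (sigmaMk (fun _ : M => T)).surjective (e'.hom z)
    refine ⟨m, t, ?_⟩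
    have ht' : Sigma.ι (fun _ : M => T) m t = e'.hom z := by rw [← sigmaMk_mk]; exact ht
    change e'.inv (Sigma.ι (fun _ : M => T) m t) = z
    rw [ht', ← Scheme.Hom.comp_apply, e'.hom_inv_id]
    rfl
  have hdisj : ∀ m n t t', σ m t = σ n t' → m = n := fun m n t t' h => by
    have h' : sigmaMk (fun _ : M => T) ⟨m, t⟩ = sigmaMk (fun _ : M => T) ⟨n, t'⟩ := by
      rw [sigmaMk_mk, sigmaMk_mk]
      exact e'.inv.isOpenEmbedding.injective h
    exact congrArg Sigma.fst ((sigmaMk _).injective h')
  have hclosed : ∀ m, IsClosed (Set.range (σ m)) := fun m => by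
    have : Set.range (σ m) = (⋃ n : {n // n ≠ m}, Set.range (σ n.1))ᶜ := by
      ext z
      simp only [Set.mem_compl_iff, Set.mem_iUnion, Set.mem_range, Subtype.exists, not_exists]
      refine ⟨fun ⟨t, ht⟩ n hn t' ht' => hn (hdisj n m t' t (ht'.trans ht.symm)), fun h => ?_⟩
      obtain ⟨n, t, ht⟩ := hcov z
      by_cases hn : n = m
      · subst hn; exact ⟨t, ht⟩
      · exact absurd ht (h n hn t)
    rw [this]
    exact (isOpen_iUnion fun n : {n // n ≠ m} => (σ n.1).isOpenEmbedding.isOpen_range).isClosed_compl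
  let q := pullback.fst fX π
  haveI : IsFinite q := MorphismProperty.pullback_fst (P := @IsFinite) fX π inferInstance
  let C : M → X.Opens := fun m => ⟨q '' Set.range (σ m), q.isOpenMap _ (σ m).isOpenEmbedding.isOpen_range⟩
  have hpre : ∀ m, q ⁻¹' (C m : Set X) = Set.range (σ m) := fun m => by
    refine Set.Subset.antisymm (fun z hz => ?_) fun z hz => ⟨z, hz, rfl⟩
    obtain ⟨n, t, rfl⟩ := hcov z
    suffices n = m by exact this ▸ ⟨t, rfl⟩
    have hW : v ∈ (σ n) ⁻¹' (q ⁻¹' (C m : Set X)) := by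
      refine himg _ ⟨?_, ?_⟩ ⟨t, hz⟩
      · exact ((q.isClosedMap _ (hclosed m)).preimage q.continuous).preimage (σ n).continuous
      · exact ((C m).isOpen.preimage q.continuous).preimage (σ n).continuous
    obtain ⟨_, ⟨t', rfl⟩, hq⟩ := hW
    have hs : ∀ k y, pullback.snd fX π (σ k y) = y := fun k y =>
      congrArg (fun g : T ⟶ T => g y) (hσ k)
    have hπ : ∀ y, fX (q y) = π (pullback.snd fX π y) := fun y =>
      congrArg (fun g : pullback fX π ⟶ U => g y) pullback.condition
    have ht' : t' = v := hv t' (by rw [← hs m t', ← hπ, hq, hπ, hs])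
    subst ht'
    exact (hdisj m n t' t' (eq_of_fst_eq fX π t' hpi _ _ hq (hs m t') (hs n t'))).symm
  have hiso : ∀ m, IsIso ((C m).ι ≫ fX) := fun m => by
    let k : pullback ((C m).ι ≫ fX) π ⟶ pullback fX π :=
      pullback.map _ _ _ _ (C m).ι (𝟙 T) (𝟙 U) (by simp) (by simp)
    have hk : Set.range k = Set.range (σ m) := by
      rw [Scheme.Pullback.range_map, Scheme.Opens.range_ι, ← hpre m]
      simp [q]
    have hks : (IsOpenImmersion.isoOfRangeEq k (σ m) hk).hom = pullback.snd ((C m).ι ≫ fX) π := by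
      have h2 : k ≫ pullback.snd fX π = pullback.snd ((C m).ι ≫ fX) π :=
        (pullback.lift_snd _ _ _).trans (Category.comp_id _)
      rw [← h2]
      conv_rhs => rw [← IsOpenImmersion.isoOfRangeEq_hom_fac k (σ m) hk, Category.assoc, hσ, Category.comp_id]
    have : (MorphismProperty.isomorphisms Scheme.{u}) (pullback.snd ((C m).ι ≫ fX) π) := by
      change IsIso _
      rw [← hks]; infer_instance
    exact MorphismProperty.of_pullback_snd_of_descendsAlong (P := MorphismProperty.isomorphisms Scheme.{u})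
      (Q := @Surjective ⊓ @Flat ⊓ @QuasiCompact) ⟨⟨inferInstance, inferInstance⟩, inferInstance⟩ this
  let s : M → (U ⟶ X) := fun m => haveI := hiso m; inv ((C m).ι ≫ fX) ≫ (C m).ι
  haveI : ∀ m, IsOpenImmersion (s m) := fun m => by haveI := hiso m; infer_instance
  have hrange : ∀ m, Set.range (s m) = (C m : Set X) := fun m => by
    haveI := hiso m
    have : Function.Surjective (inv ((C m).ι ≫ fX)) := (inv ((C m).ι ≫ fX)).homeomorph.surjective
    simp only [s, Scheme.Hom.comp_base, TopCat.coe_comp]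
    rw [this.range_comp, Scheme.Opens.range_ι]
  haveI : IsOpenImmersion (Sigma.desc s) := by
    refine isOpenImmersion_sigmaDesc (fun _ : M => U) s fun m n hmn => ?_
    simp only [Function.onFun, hrange, Set.disjoint_left]
    rintro _ ⟨z, hz, rfl⟩ hn
    have h2 : z ∈ q ⁻¹' (C n : Set X) := hn
    rw [hpre n] at h2
    obtain ⟨t, rfl⟩ := hz
    obtain ⟨t', ht'⟩ := h2
    exact hmn (hdisj n m t' t ht').symm
  haveI : Surjective q := MorphismProperty.pullback_fst (P := @Surjective) fX π inferInstance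
  haveI : Surjective (Sigma.desc s) := ⟨fun x => by
    obtain ⟨z, rfl⟩ := q.surjective x
    obtain ⟨m, t, rfl⟩ := hcov z
    obtain ⟨y, hy⟩ : q (σ m t) ∈ Set.range (s m) := by rw [hrange]; exact ⟨_, ⟨t, rfl⟩, rfl⟩
    exact ⟨Sigma.ι (fun _ : M => U) m y, by rw [← Scheme.Hom.comp_apply, Sigma.ι_desc]; exact hy⟩⟩
  haveI := isIso_of_isOpenImmersion_of_opensRange_eq_top (Sigma.desc s)
    (TopologicalSpace.Opens.ext (Set.range_eq_univ.mpr (Sigma.desc s).surjective))
  refine ⟨(Over.isoMk (asIso (Sigma.desc s)) ?_).symm⟩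
  refine Sigma.hom_ext _ _ fun m => ?_
  haveI := hiso m
  simp [s]

/-- A scheme with disjoint open sections covering it is constant. -/
theorem nonempty_iso_of_sections {T P : Scheme.{u}} (p : P ⟶ T) (M : Type u) (σ : M → (T ⟶ P))
    [∀ m, IsOpenImmersion (σ m)] (hσ : ∀ m, σ m ≫ p = 𝟙 T)
    (hdisj : ∀ m n t t', σ m t = σ n t' → m = n) (hcov : ∀ z, ∃ m t, σ m t = z) :
    Nonempty (Over.mk p ≅ TwC.const T M) := by
  haveI : IsOpenImmersion (Sigma.desc σ) := by
    refine isOpenImmersion_sigmaDesc (fun _ : M => T) σ fun m n hmn => ?_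
    simp only [Function.onFun, Set.disjoint_left]
    rintro _ ⟨t, rfl⟩ ⟨t', h⟩
    exact hmn (hdisj n m t' t h).symm
  haveI : Surjective (Sigma.desc σ) := ⟨fun z => by
    obtain ⟨m, t, rfl⟩ := hcov z
    exact ⟨Sigma.ι (fun _ : M => T) m t, by rw [← Scheme.Hom.comp_apply, Sigma.ι_desc]⟩⟩
  haveI := isIso_of_isOpenImmersion_of_opensRange_eq_top (Sigma.desc σ)
    (TopologicalSpace.Opens.ext (Set.range_eq_univ.mpr (Sigma.desc σ).surjective))
  refine ⟨(Over.isoMk (asIso (Sigma.desc σ)) ?_).symm⟩
  refine Sigma.hom_ext _ _ fun m => ?_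
  simp [hσ]

/-- The sections of a constant scheme. -/
theorem exists_sections {T P : Scheme.{u}} (p : P ⟶ T) (M : Type u) (e : Over.mk p ≅ TwC.const T M) :
    ∃ σ : M → (T ⟶ P), (∀ m, IsOpenImmersion (σ m)) ∧ (∀ m, σ m ≫ p = 𝟙 T) ∧
      (∀ m n t t', σ m t = σ n t' → m = n) ∧ ∀ z, ∃ m t, σ m t = z := by
  let e' : P ≅ (TwC.const T M).left := (Over.forget T).mapIso e
  refine ⟨fun m => Sigma.ι (fun _ : M => T) m ≫ e'.inv, fun m => inferInstance, fun m => ?_,
    fun m n t t' h => ?_, fun z => ?_⟩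
  · have : e'.inv ≫ p = Sigma.desc fun _ : M => 𝟙 T := Over.w e.inv
    simp only [Category.assoc, this]
    exact Sigma.ι_desc _ _
  · have h' : sigmaMk (fun _ : M => T) ⟨m, t⟩ = sigmaMk (fun _ : M => T) ⟨n, t'⟩ := by
      rw [sigmaMk_mk, sigmaMk_mk]
      exact e'.inv.isOpenEmbedding.injective h
    exact congrArg Sigma.fst ((sigmaMk _).injective h')
  · obtain ⟨⟨m, t⟩, ht⟩ := (sigmaMk (fun _ : M => T)).surjective (e'.hom z)
    refine ⟨m, t, ?_⟩
    have ht' : Sigma.ι (fun _ : M => T) m t = e'.hom z := by rw [← sigmaMk_mk]; exact ht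
    change e'.inv (Sigma.ι (fun _ : M => T) m t) = z
    rw [ht', ← Scheme.Hom.comp_apply, e'.hom_inv_id]
    rfl

/-- Constancy after base change persists under further base change. -/
theorem nonempty_iso_precomp {S S' T Y : Scheme.{u}} (fY : Y ⟶ S) (f : S' ⟶ S) (k : T ⟶ S') (M : Type u)
    (e : Over.mk (pullback.snd fY f) ≅ TwC.const S' M) :
    Nonempty (Over.mk (pullback.snd fY (k ≫ f)) ≅ TwC.const T M) := by
  obtain ⟨σ, hoi, hσ, hdisj, hcov⟩ := exists_sections _ M e
  have hsq : IsPullback (pullback.map fY (k ≫ f) fY f (𝟙 Y) k (𝟙 S) (by simp) (by simp))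
      (pullback.snd fY (k ≫ f)) (pullback.snd fY f) k := by
    refine IsPullback.of_right ?_ (pullback.lift_snd _ _ _) (IsPullback.of_hasPullback fY f)
    have : pullback.map fY (k ≫ f) fY f (𝟙 Y) k (𝟙 S) (by simp) (by simp) ≫ pullback.fst fY f = pullback.fst fY (k ≫ f) :=
      (pullback.lift_fst _ _ _).trans (Category.comp_id _)
    rw [this]
    exact IsPullback.of_hasPullback fY (k ≫ f)
  let σ' : M → (T ⟶ pullback fY (k ≫ f)) := fun m => hsq.lift (k ≫ σ m) (𝟙 T) (by simp [hσ])
  have hsq' : ∀ m, IsPullback (σ' m) k (pullback.map fY (k ≫ f) fY f (𝟙 Y) k (𝟙 S) (by simp) (by simp)) (σ m) := by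
    intro m
    refine IsPullback.of_right ?_ (hsq.lift_fst _ _ _) hsq.flip
    rw [hsq.lift_snd, hσ]
    exact IsPullback.of_horiz_isIso ⟨by simp⟩
  haveI : ∀ m, IsOpenImmersion (σ' m) := fun m =>
    MorphismProperty.of_isPullback (P := @IsOpenImmersion) (hsq' m).flip (hoi m)
  refine nonempty_iso_of_sections _ M σ' (fun m => hsq.lift_snd _ _ _) (fun m n t t' h => ?_) fun z => ?_
  · have hk : ∀ i y, pullback.map fY (k ≫ f) fY f (𝟙 Y) k (𝟙 S) (by simp) (by simp) (σ' i y) = σ i (k y) := fun i y =>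
      congrArg (fun g : T ⟶ pullback fY f => g y) (hsq.lift_fst _ _ _)
    exact hdisj m n (k t) (k t') (by rw [← hk, ← hk, h])
  · obtain ⟨m, y, hy⟩ := hcov (pullback.map fY (k ≫ f) fY f (𝟙 Y) k (𝟙 S) (by simp) (by simp) z)
    obtain ⟨w, hw, -⟩ := Scheme.Pullback.exists_preimage_pullback z y hy.symm
    refine ⟨m, (hsq' m).isoPullback.inv w, ?_⟩
    rw [← Scheme.Hom.comp_apply, (hsq' m).isoPullback_inv_fst]
    exact hw

end GrothLib.TwConst
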